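import Mathlib.RingTheory.Etale.Basic
import Mathlib.RingTheory.LocalRing.ResidueField.Ideal

/-!
Helper lemmas (helper50) on pairs `(S, q)` with trivial residue field extension over `(R, p)`.
-/

set_option autoImplicit false
universe u

namespace Groth.Agent.Lib.Helper50

open TensorProduct

variable {R : Type u} [CommRing R] (p : Ideal R) [p.IsPrime]

/-- If there is a ring map `G : S → κ(p)` over `R` with kernel `q`, then `κ(p) → κ(q)` is bijective. -/
lemma residueField_map_bijective_of_retraction {S : Type u} [CommRing S] [Algebra R S]
    (q : Ideal S) [q.IsPrime] (hq : p = q.comap (algebraMap R S))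
    (G : S →+* p.ResidueField) (hG : RingHom.ker G = q)
    (hGR : ∀ r, G (algebraMap R S r) = algebraMap R p.ResidueField r) :
    Function.Bijective (Ideal.ResidueField.map p q (algebraMap R S) hq) := by
  have h2 : q.primeCompl ≤ (IsUnit.submonoid p.ResidueField).comap G := by
    intro x hx
    change IsUnit (G x)
    rw [isUnit_iff_ne_zero]
    intro h0
    apply hx
    rw [← hG]
    exact h0
  let ρ : q.ResidueField →+* p.ResidueField := Ideal.ResidueField.lift q G hG.ge h2
  have hρ : ρ.comp (Ideal.ResidueField.map p q (algebraMap R S) hq) = RingHom.id _ := by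
    apply Ideal.ResidueField.ringHom_ext
    ext r
    change ρ (Ideal.ResidueField.map p q (algebraMap R S) hq (algebraMap R p.ResidueField r)) =
      algebraMap R p.ResidueField r
    rw [Ideal.ResidueField.map_algebraMap, Ideal.ResidueField.lift_algebraMap, hGR]
  refine ⟨RingHom.injective _, fun y => ⟨ρ y, ρ.injective ?_⟩⟩
  exact congrArg (fun f : p.ResidueField →+* p.ResidueField => f (ρ y)) hρ

/-- From a pair `(S, q)` with trivial residue field extension, the `R`-algebra map `S → κ(p)`
with kernel `q`. -/
lemma exists_algHom_residueField {S : Type u} [CommRing S] [Algebra R S]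
    (q : Ideal S) [q.IsPrime] (hq : p = q.comap (algebraMap R S))
    (hκ : Function.Bijective (Ideal.ResidueField.map p q (algebraMap R S) hq)) :
    ∃ g : S →ₐ[R] p.ResidueField, RingHom.ker g.toRingHom = q ∧
      ∀ x, Ideal.ResidueField.map p q (algebraMap R S) hq (g x) = algebraMap S q.ResidueField x := by
  let e : p.ResidueField ≃+* q.ResidueField := RingEquiv.ofBijective _ hκ
  have he : ∀ y, e y = Ideal.ResidueField.map p q (algebraMap R S) hq y := fun _ => rfl
  let g₀ : S →+* p.ResidueField := e.symm.toRingHom.comp (algebraMap S q.ResidueField)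
  have hg₀ : ∀ x, e (g₀ x) = algebraMap S q.ResidueField x := fun x => e.apply_symm_apply _
  let g : S →ₐ[R] p.ResidueField :=
    { g₀ with
      commutes' := by
        intro r
        change g₀ (algebraMap R S r) = algebraMap R p.ResidueField r
        apply e.injective
        rw [hg₀, he, Ideal.ResidueField.map_algebraMap] }
  refine ⟨g, ?_, hg₀⟩
  ext x
  rw [RingHom.mem_ker]
  change g₀ x = 0 ↔ _
  rw [← e.map_eq_zero_iff (x := g₀ x), hg₀, Ideal.algebraMap_residueField_eq_zero]

end Groth.Agent.Lib.Helper50
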