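import Groth.Agent.Lib.Helper50.ResidueTriv

/-!
More helper lemmas (helper50) on pairs `(S, q)` with trivial residue field extension over `(R, p)`.
-/

set_option autoImplicit false
universe u

namespace Groth.Agent.Lib.Helper50

open TensorProduct

variable {R : Type u} [CommRing R] (p : Ideal R) [p.IsPrime]

/-- Any `R`-algebra map `h : S → κ(p)` with kernel `q` is compatible with the residue field map. -/
lemma residueField_map_algHom {S : Type u} [CommRing S] [Algebra R S]
    (q : Ideal S) [q.IsPrime] (hq : p = q.comap (algebraMap R S))
    (h : S →ₐ[R] p.ResidueField) (hh : RingHom.ker h.toRingHom = q) (x : S) :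
    Ideal.ResidueField.map p q (algebraMap R S) hq (h x) = algebraMap S q.ResidueField x := by
  have h2 : q.primeCompl ≤ (IsUnit.submonoid p.ResidueField).comap h.toRingHom := by
    intro y hy
    change IsUnit (h y)
    rw [isUnit_iff_ne_zero]
    intro h0
    apply hy
    rw [← hh]
    exact h0
  let ρ : q.ResidueField →+* p.ResidueField := Ideal.ResidueField.lift q h.toRingHom hh.ge h2
  have hρ : ρ.comp (Ideal.ResidueField.map p q (algebraMap R S) hq) = RingHom.id _ := by
    apply Ideal.ResidueField.ringHom_ext
    ext r
    change ρ (Ideal.ResidueField.map p q (algebraMap R S) hq (algebraMap R p.ResidueField r)) =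
      algebraMap R p.ResidueField r
    rw [Ideal.ResidueField.map_algebraMap, Ideal.ResidueField.lift_algebraMap]
    exact h.commutes r
  apply ρ.injective
  have h1 : ρ (Ideal.ResidueField.map p q (algebraMap R S) hq (h x)) = h x :=
    congrArg (fun f : p.ResidueField →+* p.ResidueField => f (h x)) hρ
  rw [h1, Ideal.ResidueField.lift_algebraMap]
  rfl

/-- Uniqueness of the `R`-algebra map `S → κ(p)` with kernel `q`. -/
lemma algHom_residueField_unique {S : Type u} [CommRing S] [Algebra R S]
    (q : Ideal S) [q.IsPrime] (hq : p = q.comap (algebraMap R S))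
    (h₁ h₂ : S →ₐ[R] p.ResidueField) (hh₁ : RingHom.ker h₁.toRingHom = q)
    (hh₂ : RingHom.ker h₂.toRingHom = q) : h₁ = h₂ := by
  ext x
  apply (Ideal.ResidueField.map p q (algebraMap R S) hq).injective
  rw [residueField_map_algHom p q hq h₁ hh₁, residueField_map_algHom p q hq h₂ hh₂]

/-- Functoriality of the residue field maps along `R → S → T`. -/
lemma residueField_map_comp {S T : Type u} [CommRing S] [CommRing T] [Algebra R S] [Algebra S T]
    [Algebra R T] [IsScalarTower R S T]
    (q : Ideal S) [q.IsPrime] (r : Ideal T) [r.IsPrime]
    (hq : p = q.comap (algebraMap R S)) (hr : q = r.comap (algebraMap S T))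
    (hpr : p = r.comap (algebraMap R T)) :
    Ideal.ResidueField.map p r (algebraMap R T) hpr =
      (Ideal.ResidueField.map q r (algebraMap S T) hr).comp
        (Ideal.ResidueField.map p q (algebraMap R S) hq) := by
  apply Ideal.ResidueField.ringHom_ext
  ext x
  change Ideal.ResidueField.map p r (algebraMap R T) hpr (algebraMap R p.ResidueField x) =
    Ideal.ResidueField.map q r (algebraMap S T) hr
      (Ideal.ResidueField.map p q (algebraMap R S) hq (algebraMap R p.ResidueField x))
  rw [Ideal.ResidueField.map_algebraMap, Ideal.ResidueField.map_algebraMap,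
    Ideal.ResidueField.map_algebraMap, IsScalarTower.algebraMap_apply R S T]

end Groth.Agent.Lib.Helper50
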